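import Cfsg.Agent.H104.Wf.Tools
import Cfsg.Agent.BpSpor.JFourThree
import Cfsg.Agent.S2068

/-!
# S3826, `p = 3`: the fourth Janko group (helper104, task 4280)

One class of subgroups of order three: `Cfsg.Agent.BpSpor.J4.conj_rho`.
-/

set_option autoImplicit false

open scoped Pointwise

namespace Cfsg.Agent.H104.Wf.J4

open Subgroup Cfsg Cfsg.Agent.H533.Wf Cfsg.Agent.J4Type Cfsg.Agent.J4Type.FusionCent Cfsg.Agent.J4Type.TauF
open Cfsg.Agent.BpSpor.J4

/-- the index of the centralizer of `z` is prime to `3` -/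
theorem index_z [Finite Spor.J4] (hcard : Nat.card Spor.J4 = 86775571046077562880) (C : J4Type.Compl Spor.J4) :
    ¬ 3 ∣ (centralizer ({C.z} : Set Spor.J4)).index := by
  intro h3
  have h9 : 9 ∣ Nat.card C.P.range := by
    have hle : Spor.M22 ≤ C.P.range := by
      intro w hw
      rw [C.P_range]
      have h4 := (Cfsg.Agent.SporadicA.MathieuRecog.mem_M22_iff _).1 hw
      refine ⟨h4.1, ?_⟩
      change w • base = base
      rw [base, Finset.smul_finset_insert, Finset.smul_finset_singleton]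
      change ({w none, w (some 0)} : Finset GolayPt) = _
      rw [h4.2.1, h4.2.2]
    refine dvd_trans ?_ (card_dvd_of_le hle)
    rw [Cfsg.Agent.SporadicA.MathieuRecog.card_M22]
    norm_num
  have hk3 : 3 ∣ Nat.card C.P.ker := by
    have hρC : C.ρ ∈ centralizer ({C.z} : Set Spor.J4) := mem_centralizer_singleton_iff.2 C.ρ_comm
    have hPρ : (⟨C.ρ, hρC⟩ : centralizer ({C.z} : Set Spor.J4)) ∈ C.P.ker :=
      (C.P_ker _).2 ⟨1, C.Q.one_mem, 1, by rw [one_mul, pow_one]⟩
    have h4 := orderOf_dvd_natCard (⟨⟨C.ρ, hρC⟩, hPρ⟩ : C.P.ker)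
    rwa [Subgroup.orderOf_mk, Subgroup.orderOf_mk, C.ρ_order] at h4
  have h27 : 27 ∣ Nat.card (centralizer ({C.z} : Set Spor.J4)) := by
    rw [← card_mul_index C.P.ker, index_ker]
    exact (show 27 = 3 * 9 by norm_num) ▸ Nat.mul_dvd_mul hk3 h9
  have h81 : 27 * 3 ∣ Nat.card Spor.J4 := by
    rw [← card_mul_index (centralizer ({C.z} : Set Spor.J4))]
    exact Nat.mul_dvd_mul h27 h3
  rw [hcard] at h81
  norm_num at h81

/-- **`J₄`** -/
theorem j4 (K : Type*) [Group K] [Finite K] [IsSimpleGroup K] (h : Spor.IsoJ4 K) : ARow 3 K := by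
  obtain ⟨e⟩ := h
  obtain ⟨hfin, hsim, ⟨F⟩⟩ := KFacts.J4.Base.exists_full (K := Cfsg.Spor.J4) ⟨MulEquiv.refl _⟩
  have hcard : Nat.card Spor.J4 = 86775571046077562880 := UniqSheet.J4.card_eq ⟨MulEquiv.refl _⟩
  refine arow_of_class e (inner_of_out (by rw [Cfsg.Agent.S2068.result]; norm_num)) (z := F.C.ρ) ?_ fun x hx => ?_
  · intro h1
    have h2 := F.C.ρ_order
    rw [h1, orderOf_one] at h2
    norm_num at h2
  · obtain ⟨g, hg⟩ := conj_rho F.C (index_z hcard F.C) hx
    rcases hg with hg | hg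
    · exact ⟨1, g, by rw [pow_one, hg]⟩
    · refine ⟨2, g, ?_⟩
      rw [← conj_pow, hg]
      have h3 : F.C.ρ ^ 3 = 1 := by rw [← F.C.ρ_order]; exact pow_orderOf_eq_one _
      rw [inv_pow, inv_eq_iff_mul_eq_one, ← pow_succ, h3]

end Cfsg.Agent.H104.Wf.J4
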