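import Cfsg.Agent.H104.Wf.Tools
import Cfsg.Agent.R04.ONThree
import Cfsg.Agent.H573.Spor.ONSeven
import Cfsg.Agent.S2078

/-!
# S3826, `p = 3`: the O'Nan group (helper104, task 4280)

The Sylow 3-subgroups are commutative (helper of `R04.ONThree`).
-/

set_option autoImplicit false

namespace Cfsg.Agent.H104.Wf

open Subgroup Cfsg Cfsg.Agent.H533.T5 Cfsg.Agent.H533.Wf

/-- a commutative Sylow 3-subgroup of a model -/
theorem arow_of_comm {K X : Type*} [Group K] [Finite K] [IsSimpleGroup K] [Group X] (e : K ≃* X)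
    (hp : ¬ (Nat.card X).Prime)
    (hout : ∀ a : MulAut X, orderOf a = 3 → a ∈ (MulAut.conj : X →* MulAut X).range) (E : Subgroup X)
    (hE : IsPGroup 3 E) (hi : ¬ 3 ∣ E.index) (hc : ∀ x ∈ E, ∀ y ∈ E, x * y = y * x) : ARow 3 K := by
  have : Fact (Nat.Prime 3) := ⟨Nat.prime_three⟩
  have hna : ¬ IsMulCommutative K := not_comm_of_card (by rw [Nat.card_congr e.toEquiv]; exact hp)
  refine ARow.of_wrow (WRow.of_inner hna (inner_congr e hout) fun x y hx hy => ?_)
  have hE' : IsPGroup 3 (E.comap e.toMonoidHom) := hE.comap_of_injective e.toMonoidHom e.injective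
  have hi' : ¬ 3 ∣ (E.comap e.toMonoidHom).index := by
    rw [Subgroup.index_comap_of_surjective _ e.surjective]
    exact hi
  refine wpair_top_of_sylow_comm hna (hE'.toSylow hi') ⟨⟨?_⟩⟩ ?_ ?_
  · rintro ⟨a, ha⟩ ⟨b, hb⟩
    apply Subtype.ext
    apply e.injective
    change e (a * b) = e (b * a)
    rw [map_mul, map_mul]
    exact hc _ ha _ hb
  · rintro rfl
    rw [orderOf_one] at hx
    norm_num at hx
  · rintro rfl
    rw [orderOf_one] at hy
    norm_num at hy

open Cfsg.Agent.R04.ONThree in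
theorem on (K : Type*) [Group K] [Finite K] [IsSimpleGroup K] (h : Spor.IsoON K) : ARow 3 K := by
  obtain ⟨e⟩ := h
  have hs : IsSimpleGroup Spor.ON := (MulEquiv.isSimpleGroup_congr e).1 inferInstance
  have hfin : Finite Spor.ON := Finite.of_equiv K e.toEquiv
  have hcard := Cfsg.Agent.H573.Spor.ONSeven.card_ON
  have hE := (data hs).card_E ab_ne fe_ne a_ne f_ne (Cfsg.Agent.R04.ONThree.inv hs)
  refine arow_of_comm e (by rw [hcard]; norm_num) (inner_of_out (by rw [Cfsg.Agent.S2078.result])) (data hs).E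
    (IsPGroup.of_card (n := 4) (by rw [hE]; norm_num)) ?_ ?_
  · have h1 := (data hs).E.card_mul_index
    rw [hE, hcard] at h1
    rintro ⟨k, hk⟩
    rw [hk] at h1
    omega
  · rintro _ ⟨i, j, k, l, rfl⟩ _ ⟨i', j', k', l', rfl⟩
    rw [(data hs).el_mul, (data hs).el_mul]
    simp only [add_comm]

end Cfsg.Agent.H104.Wf
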