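import Cfsg.Agent.H104.Wf.Tools
import Cfsg.Agent.S2060
import Cfsg.Agent.S2062
import Cfsg.Agent.S2063
import Cfsg.Agent.S2065
import Cfsg.Agent.S2072
import Cfsg.Agent.HNType.Alt
import Cfsg.Agent.SporadicA.MathieuRecog
import Cfsg.Agent.H348.Inv.J1
import Cfsg.Agent.H665.SporCo

/-!
# S3826, `p = 3`: the sporadic groups of order prime to `27` (helper104, task 4280)
-/

set_option autoImplicit false

namespace Cfsg.Agent.H104.Wf

open Cfsg Cfsg.Agent.H533.Wf

theorem m11 (K : Type*) [Group K] [Finite K] [IsSimpleGroup K] (h : Spor.IsoM11 K) : ARow 3 K := by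
  obtain ⟨e⟩ := h
  exact arow_of_card e Cfsg.Agent.HNType.Alt.card_M11 (by norm_num) (by norm_num)
    (by rw [Cfsg.Agent.S2060.result]; norm_num)

theorem m22 (K : Type*) [Group K] [Finite K] [IsSimpleGroup K] (h : Spor.IsoM22 K) : ARow 3 K := by
  obtain ⟨e⟩ := h
  exact arow_of_card e Cfsg.Agent.SporadicA.MathieuRecog.card_M22 (by norm_num) (by norm_num)
    (by rw [Cfsg.Agent.S2062.result])

theorem m23 (K : Type*) [Group K] [Finite K] [IsSimpleGroup K] (h : Spor.IsoM23 K) : ARow 3 K := by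
  obtain ⟨e⟩ := h
  exact arow_of_card e Cfsg.Agent.SporadicA.MathieuRecog.card_M23 (by norm_num) (by norm_num)
    (by rw [Cfsg.Agent.S2063.result]; norm_num)

theorem j1 (K : Type*) [Group K] [Finite K] [IsSimpleGroup K] (h : Spor.IsoJ1 K) : ARow 3 K := by
  obtain ⟨e⟩ := h
  exact arow_of_card e Cfsg.Agent.H348.Inv.J1.card_J1 (by norm_num) (by norm_num)
    (by rw [Cfsg.Agent.S2065.result]; norm_num)

theorem hs (K : Type*) [Group K] [Finite K] [IsSimpleGroup K] (h : Spor.IsoHS K) : ARow 3 K := by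
  obtain ⟨e⟩ := h
  exact arow_of_card e Cfsg.Agent.H665.SporCo.card_HS (by norm_num) (by norm_num)
    (by rw [Cfsg.Agent.S2072.result])

end Cfsg.Agent.H104.Wf
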