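import Cfsg.Agent.H104.Wf.Tools
import Cfsg.Agent.H933.TitsRadThree
import Cfsg.Agent.H867.TitsOut

/-!
# S3826, `p = 3`: the Tits group (helper104, task 4280)
-/

set_option autoImplicit false

namespace Cfsg.Agent.H104.Wf

open Cfsg Cfsg.Agent.H533.Wf

theorem tits (K : Type*) [Group K] [Finite K] [IsSimpleGroup K] (h : Lie.IsoTits K) : ARow 3 K := by
  obtain ⟨t, -, -, h2, -, -, h5⟩ := Cfsg.Agent.H933.TitsRadThree.prop3_iso h
  refine arow_of_class (MulEquiv.refl K) (inner_of_out (Cfsg.Agent.H867.TitsOut.card_out_le h)) h2 fun x hx => ?_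
  obtain ⟨g, hg⟩ := isConj_iff.1 (h5 x hx)
  exact ⟨1, g, by rw [pow_one, hg]⟩

end Cfsg.Agent.H104.Wf
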